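import Groth.Agent.CohDer1.PointedSplit.Extend
import Mathlib.RingTheory.Bialgebra.Hom

/-!
# Unipotent by diagonalizable extensions split
-/

set_option autoImplicit false

noncomputable section

open TensorProduct HopfRep
open Groth.Agent.HopfLib Groth.Agent.HopfQuot

universe u

namespace Groth.Agent.CohDer1.PointedSplit

variable {k : Type u} [Field k] [IsAlgClosed k] {M : Type u} [CommGroup M] {A : Type u} [CommRing A]
  [HopfAlgebra k A] [Algebra.FiniteType k A]

theorem exists_retraction (φ : MonoidAlgebra k M →ₐc[k] A) (hφ : Function.Injective φ)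
    (J : Ideal A) [J.IsHopfIdeal k] (hJ : J = Ideal.map (φ : MonoidAlgebra k M →+* A)
      (RingHom.ker (Bialgebra.counitAlgHom k (MonoidAlgebra k M))))
    (hU : IsUnipotent k (A ⧸ J)) :
    ∃ r : A →ₐc[k] MonoidAlgebra k M, r.comp φ = BialgHom.id k (MonoidAlgebra k M) := by
  classical
  haveI : IsNoetherianRing A := Algebra.FiniteType.isNoetherianRing k A
  obtain ⟨ρ₀, hρ₀⟩ := exists_comp_eq ((φ : MonoidAlgebra k M →ₐ[k] A).toLinearMap) LinearMap.id
    (fun x hx => hφ (hx.trans (map_zero φ).symm))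
  have hρ₀' : ∀ d, ρ₀ (φ d) = d := hρ₀
  have h₀ : IsPartialRetr φ (base φ) ρ₀ := by
    refine ⟨isHopfSubalgebra_base φ, le_rfl, hρ₀', ?_, ?_, ?_⟩
    · rintro _ ⟨a, rfl⟩ _ ⟨b, rfl⟩
      show ρ₀ (φ a * φ b) = ρ₀ (φ a) * ρ₀ (φ b)
      rw [← map_mul, hρ₀', hρ₀', hρ₀']
    · rintro _ ⟨a, rfl⟩
      show Coalgebra.comul (R := k) (ρ₀ (φ a)) = TensorProduct.map ρ₀ ρ₀ (Coalgebra.comul (R := k) (φ a))
      rw [hρ₀', ← CoalgHomClass.map_comp_comul_apply φ a]
      generalize Coalgebra.comul (R := k) a = z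
      induction z using TensorProduct.induction_on with
      | zero => simp
      | add x y hx hy => simp only [map_add, ← hx, ← hy]
      | tmul x y => simp [hρ₀']
    · rintro _ ⟨a, rfl⟩
      show Coalgebra.counit (R := k) (ρ₀ (φ a)) = Coalgebra.counit (R := k) (φ a)
      rw [hρ₀', CoalgHomClass.counit_comp_apply φ a]
  obtain ⟨I, ⟨S, ρ, hS, rfl⟩, hmax⟩ := set_has_maximal_iff_noetherian.2 (inferInstance : IsNoetherian A A)
    {I : Ideal A | ∃ (S : Subalgebra k A) (ρ : A →ₗ[k] MonoidAlgebra k M),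
      IsPartialRetr φ S ρ ∧ SGA3.augIdealSpan k A S = I}
    ⟨_, base φ, ρ₀, h₀, rfl⟩
  have htop : S = ⊤ := by
    by_contra hne
    obtain ⟨t, G, htS, ht⟩ := exists_skew_mod φ J hφ hJ hU hS.hopf hS.le hne
    obtain ⟨S', ρ', hlt, hS'⟩ := hS.exists_gt t G htS ht
    refine hmax _ ⟨S', ρ', hS', rfl⟩ (lt_of_le_of_ne
      (Ideal.span_mono fun a ha => ⟨hlt.le ha.1, ha.2⟩) fun he => hlt.ne ?_)
    rw [← invAlg_eq_of_augIdealSpan hS.hopf, ← invAlg_eq_of_augIdealSpan hS'.hopf, he]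
  subst htop
  let r : A →ₐ[k] MonoidAlgebra k M :=
    AlgHom.ofLinearMap ρ hS.map_one fun a b => hS.map_mul a Algebra.mem_top b Algebra.mem_top
  refine ⟨BialgHom.ofAlgHom r (AlgHom.ext fun a => hS.counit a Algebra.mem_top)
    (AlgHom.ext fun a => (hS.comul a Algebra.mem_top).symm), BialgHom.ext fun d => hS.retr d⟩

end Groth.Agent.CohDer1.PointedSplit
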