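import Mathlib.RingTheory.Bialgebra.MonoidAlgebra
import Mathlib.RingTheory.HopfAlgebra.MonoidAlgebra
import Mathlib.FieldTheory.IsAlgClosed.Basic
import Mathlib.Algebra.Polynomial.Div
import Mathlib.LinearAlgebra.Basis.VectorSpace

/-!
# Retractions onto a group algebra: skew primitive elements and cocycles
-/

set_option autoImplicit false

noncomputable section

open TensorProduct Polynomial MonoidAlgebra

universe u

namespace Groth.Agent.CohDer1.PointedSplit

variable {k : Type u} [Field k] {M : Type u} [CommGroup M]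

/-- A group-like element of the group algebra. -/
abbrev el (k : Type u) [Field k] {M : Type u} [CommGroup M] (m : M) : MonoidAlgebra k M :=
  MonoidAlgebra.single m 1

/-- The coefficient of a group element. -/
def co (m : M) : MonoidAlgebra k M →ₗ[k] k := (MonoidAlgebra.basis M k).coord m

lemma co_el [DecidableEq M] (m m' : M) : co m (el k m') = if m' = m then 1 else 0 := by
  rw [co, el, ← MonoidAlgebra.basis_apply, Module.Basis.coord_apply, Module.Basis.repr_self, Finsupp.single_apply]

lemma ext_co {x y : MonoidAlgebra k M} (h : ∀ m, co m x = co m y) : x = y :=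
  (MonoidAlgebra.basis M k).repr.injective (Finsupp.ext h)

lemma el_mul (m m' : M) : el k m * el k m' = el k (m * m') := by
  simp [el, MonoidAlgebra.single_mul_single]

lemma el_one : el k (1 : M) = 1 := rfl

lemma el_pow (m : M) (i : ℕ) : el k m ^ i = el k (m ^ i) := by simp [el, MonoidAlgebra.single_pow]

lemma comul_el (m : M) : Coalgebra.comul (R := k) (el k m) = el k m ⊗ₜ[k] el k m :=
  (MonoidAlgebra.isGroupLikeElem_single_one (R := k) (A := k) m).comul_eq_tmul_self

lemma add_pow_eq {R : Type*} [CommRing R] (x y : R) {i : ℕ} (hi : 0 < i)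
    (h : ∀ a, 0 < a → a < i → (i.choose a : R) = 0) : (x + y) ^ i = x ^ i + y ^ i := by
  rw [add_pow, Finset.sum_range_succ, Finset.sum_eq_single 0]
  · simp [add_comm]
  · intro a ha ha0; rw [h a (Nat.pos_of_ne_zero ha0) (Finset.mem_range.1 ha), mul_zero]
  · intro h; exact absurd (Finset.mem_range.2 hi) h

section Skew

variable {Q : Type u} [CommRing Q] [Algebra k Q] (j : MonoidAlgebra k M →ₐ[k] Q) (t : Q) (g : M)

lemma map_monomial (Δ : Q →ₐ[k] Q ⊗[k] Q) (hΔj : ∀ m, Δ (j (el k m)) = j (el k m) ⊗ₜ[k] j (el k m))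
    (hΔt : Δ t = t ⊗ₜ[k] j (el k g) + 1 ⊗ₜ[k] t) (φ ψ : Q →ₗ[k] k) (m : M) (i : ℕ) :
    LinearMap.mul' k k (TensorProduct.map φ ψ (Δ (j (el k m) * t ^ i))) =
      ∑ a ∈ Finset.range (i + 1),
        (i.choose a : k) * (φ (j (el k m) * t ^ a) * ψ (j (el k (m * g ^ a)) * t ^ (i - a))) := by
  rw [map_mul, map_pow, hΔt, hΔj, add_pow, Finset.mul_sum, map_sum, map_sum]
  refine Finset.sum_congr rfl fun a _ => ?_
  rw [Algebra.TensorProduct.tmul_pow, Algebra.TensorProduct.tmul_pow, Algebra.TensorProduct.tmul_mul_tmul, one_pow,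
    mul_one, ← nsmul_eq_mul', mul_smul_comm, Algebra.TensorProduct.tmul_mul_tmul, map_nsmul, map_nsmul,
    TensorProduct.map_tmul, LinearMap.mul'_apply, nsmul_eq_mul, ← mul_assoc (j (el k m)), ← map_pow, ← map_mul,
    el_pow, el_mul]

/-- A skew primitive element satisfies every relation after a suitable specialisation. -/
theorem exists_specialisation [IsAlgClosed k] (hj : Function.Injective j) (Δ : Q →ₐ[k] Q ⊗[k] Q)
    (hΔj : ∀ m, Δ (j (el k m)) = j (el k m) ⊗ₜ[k] j (el k m))
    (hΔt : Δ t = t ⊗ₜ[k] j (el k g) + 1 ⊗ₜ[k] t) :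
    ∃ c : k, ∀ f : (MonoidAlgebra k M)[X], f.eval₂ j.toRingHom t = 0 → f.eval (c • (el k g - 1)) = 0 := by
  classical
  by_cases hfree : ∀ f : (MonoidAlgebra k M)[X], f.eval₂ j.toRingHom t = 0 → f = 0
  · exact ⟨0, fun f hf => by rw [hfree f hf, eval_zero]⟩
  have hex : ∃ n, ∃ f : (MonoidAlgebra k M)[X], f.eval₂ j.toRingHom t = 0 ∧ f ≠ 0 ∧ f.natDegree = n := by
    push Not at hfree
    obtain ⟨f, hf, hf0⟩ := hfree
    exact ⟨_, f, hf, hf0, rfl⟩
  obtain ⟨n, hn_def⟩ : ∃ n, n = Nat.find hex := ⟨_, rfl⟩
  obtain ⟨f₀, hf₀, hf₀0, hdeg₀⟩ : ∃ f : (MonoidAlgebra k M)[X], f.eval₂ j.toRingHom t = 0 ∧ f ≠ 0 ∧ f.natDegree = n :=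
    hn_def ▸ Nat.find_spec hex
  have hmin : ∀ f : (MonoidAlgebra k M)[X], f.eval₂ j.toRingHom t = 0 → f.natDegree < n → f = 0 := fun f hf hlt => by
    by_contra h0
    exact Nat.find_min hex (hn_def ▸ hlt) ⟨f, hf, h0, rfl⟩
  have hn : 0 < n := by
    refine Nat.pos_of_ne_zero fun h0 => hf₀0 ?_
    rw [eq_C_of_natDegree_eq_zero (hdeg₀.trans h0)] at hf₀ ⊢
    rw [eval₂_C] at hf₀
    rw [hj (hf₀.trans (map_zero j).symm), map_zero]
  let v : M × Fin n → Q := fun p => j (el k p.1) * t ^ (p.2 : ℕ)
  let poly : (M × Fin n →₀ k) →ₗ[k] (MonoidAlgebra k M)[X] :=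
    Finsupp.linearCombination k fun p => Polynomial.monomial (p.2 : ℕ) (el k p.1)
  have hpoly : ∀ c, (poly c).eval₂ j.toRingHom t = Finsupp.linearCombination k v c := fun c => by
    induction c using Finsupp.induction_linear with
    | zero => simp
    | add x y hx hy => simp only [map_add, eval₂_add, hx, hy]
    | single p a =>
      simp only [poly, v, Finsupp.linearCombination_single, Polynomial.smul_monomial, eval₂_monomial]
      rw [show j.toRingHom (a • el k p.1) = a • j (el k p.1) from map_smul j a _, smul_mul_assoc]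
  have hpolydeg : ∀ c, (poly c).natDegree < n := fun c => by
    induction c using Finsupp.induction_linear with
    | zero => simpa using hn
    | add x y hx hy => rw [map_add]; exact lt_of_le_of_lt (natDegree_add_le _ _) (max_lt hx hy)
    | single p a =>
      simp only [poly, Finsupp.linearCombination_single, Polynomial.smul_monomial]
      exact lt_of_le_of_lt (natDegree_monomial_le _) p.2.2
  have hpolyco : ∀ c p, co p.1 ((poly c).coeff (p.2 : ℕ)) = c p := fun c p => by
    induction c using Finsupp.induction_linear with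
    | zero => simp [Polynomial.coeff_zero]
    | add x y hx hy => simp only [map_add, Polynomial.coeff_add, Finsupp.add_apply, hx, hy]
    | single q a =>
      simp only [poly, Finsupp.linearCombination_single, Polynomial.smul_monomial, coeff_monomial]
      rw [Finsupp.single_apply]
      by_cases h : (q.2 : ℕ) = p.2
      · rw [if_pos h, map_smul, co_el, smul_eq_mul, mul_ite, mul_one, mul_zero]
        exact if_congr ⟨fun h' => Prod.ext h' (Fin.ext h), fun h' => congrArg Prod.fst h'⟩ rfl rfl
      · rw [if_neg h, map_zero, if_neg (fun h' : q = p => h (by rw [h']))]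
  have hv : Function.Injective (Finsupp.linearCombination k v) := (injective_iff_map_eq_zero _).2 fun c hc => by
    ext p
    rw [← hpolyco c p, hmin _ ((hpoly c).trans hc) (hpolydeg c), Polynomial.coeff_zero, map_zero, Finsupp.zero_apply]
  obtain ⟨L, hL⟩ := (Finsupp.linearCombination k v).exists_leftInverse_of_injective (LinearMap.ker_eq_bot.2 hv)
  let φ : M → Fin n → (Q →ₗ[k] k) := fun m a => Finsupp.lapply (m, a) ∘ₗ L
  have hφ : ∀ m a m' (i : ℕ), i < n → φ m a (j (el k m') * t ^ i) = if m' = m ∧ i = a then 1 else 0 := by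
    intro m a m' i hi
    have := LinearMap.congr_fun hL (Finsupp.single (m', (⟨i, hi⟩ : Fin n)) 1)
    simp only [LinearMap.comp_apply, LinearMap.id_apply, Finsupp.linearCombination_single, one_smul, v] at this
    simp only [φ, LinearMap.comp_apply, Finsupp.lapply_apply, this, Finsupp.single_apply, Prod.mk.injEq, Fin.ext_iff]
  -- the relation can be made monic
  have hlead : ∃ m, co m f₀.leadingCoeff ≠ 0 := by
    by_contra! h
    exact hf₀0 (leadingCoeff_eq_zero.1 (ext_co fun m => by rw [h m, map_zero]))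
  obtain ⟨m₀, hm₀⟩ := hlead
  have hW : ∀ Φ : Q →ₗ[k] k, (∀ c, Φ (Finsupp.linearCombination k v c) = 0) → Φ (j (el k m₀) * t ^ n) = 0 := by
    intro Φ hΦ
    let ψ := φ (m₀ * g ^ n) ⟨0, hn⟩
    let T : Q →ₗ[k] k := LinearMap.mul' k k ∘ₗ TensorProduct.map Φ ψ ∘ₗ Δ.toLinearMap
    have h0 : T (f₀.eval₂ j.toRingHom t) = 0 := by rw [hf₀, map_zero]
    have hlow : ∀ m (a : ℕ), a < n → Φ (j (el k m) * t ^ a) = 0 := fun m a ha => by
      simpa [v] using hΦ (Finsupp.single (m, (⟨a, ha⟩ : Fin n)) 1)
    have hTi : ∀ (i : ℕ), i ≤ n → ∀ b, T (j b * t ^ i) =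
        if i = n then co m₀ b * Φ (j (el k m₀) * t ^ n) else 0 := by
      intro i hi b
      let Lb : MonoidAlgebra k M →ₗ[k] k := T ∘ₗ LinearMap.mulRight k (t ^ i) ∘ₗ j.toLinearMap
      let Rb : MonoidAlgebra k M →ₗ[k] k := if i = n then (Φ (j (el k m₀) * t ^ n)) • co m₀ else 0
      have : Lb = Rb := (MonoidAlgebra.basis M k).ext fun m => by
        simp only [Lb, Rb, MonoidAlgebra.basis_apply, LinearMap.comp_apply, LinearMap.mulRight_apply,
          AlgHom.toLinearMap_apply]
        show LinearMap.mul' k k (TensorProduct.map Φ ψ (Δ (j (el k m) * t ^ i))) = _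
        rw [map_monomial j t g Δ hΔj hΔt, Finset.sum_eq_single i]
        · split_ifs with hin
          · subst hin
            rw [Nat.choose_self, Nat.cast_one, one_mul, Nat.sub_self, hφ _ _ _ _ hn, LinearMap.smul_apply,
              smul_eq_mul, show (MonoidAlgebra.single m 1 : MonoidAlgebra k M) = el k m from rfl, co_el]
            by_cases hm : m = m₀
            · subst hm; simp
            · rw [if_neg hm, if_neg (fun h => hm (mul_right_cancel h.1))]; simp
          · rw [hlow m i (lt_of_le_of_ne hi hin)]; simp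
        · intro a ha hai
          rw [hlow m a (by rw [Finset.mem_range] at ha; omega)]; simp
        · intro h; exact absurd (Finset.self_mem_range_succ i) h
      have h1 := LinearMap.congr_fun this b
      simp only [Lb, Rb, LinearMap.comp_apply, LinearMap.mulRight_apply, AlgHom.toLinearMap_apply] at h1
      rw [h1]
      split_ifs <;> simp [mul_comm]
    rw [eval₂_eq_sum_range, hdeg₀, map_sum, Finset.sum_eq_single n] at h0
    · rw [show j.toRingHom (f₀.coeff n) = j (f₀.coeff n) from rfl, hTi n le_rfl, if_pos rfl, ← hdeg₀] at h0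
      rw [← hdeg₀]
      exact (mul_eq_zero.1 h0).resolve_left hm₀
    · intro i hi hin
      rw [show j.toRingHom (f₀.coeff i) = j (f₀.coeff i) from rfl,
        hTi i (by rw [Finset.mem_range] at hi; omega), if_neg hin]
    · intro h; exact absurd (Finset.self_mem_range_succ n) h
  obtain ⟨c₀, hc₀⟩ : j (el k m₀) * t ^ n ∈ LinearMap.range (Finsupp.linearCombination k v) := by
    by_contra hnot
    obtain ⟨Φ, h1, h2⟩ := Submodule.exists_dual_map_eq_bot_of_notMem hnot inferInstance
    refine h1 (hW Φ fun c => ?_)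
    have : Φ (Finsupp.linearCombination k v c) ∈
        (LinearMap.range (Finsupp.linearCombination k v)).map Φ := ⟨_, ⟨c, rfl⟩, rfl⟩
    rwa [h2, Submodule.mem_bot] at this
  let q : (MonoidAlgebra k M)[X] := Polynomial.C (el k m₀⁻¹) * poly c₀
  let P : (MonoidAlgebra k M)[X] := X ^ n - q
  have hqdeg : q.natDegree < n := lt_of_le_of_lt (natDegree_C_mul_le _ _) (hpolydeg c₀)
  have hqd : q.degree < (n : WithBot ℕ) := lt_of_le_of_lt degree_le_natDegree (by exact_mod_cast hqdeg)
  have htn : t ^ n = q.eval₂ j.toRingHom t := by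
    rw [eval₂_mul, eval₂_C, hpoly, hc₀, show j.toRingHom (el k m₀⁻¹) = j (el k m₀⁻¹) from rfl, ← mul_assoc,
      ← map_mul, el_mul, inv_mul_cancel, el_one, map_one, one_mul]
  have hP : P.eval₂ j.toRingHom t = 0 := by rw [eval₂_sub, eval₂_pow, eval₂_X, htn, sub_self]
  let b : ℕ → MonoidAlgebra k M := q.coeff
  have htn' : t ^ n = ∑ i ∈ Finset.range n, j (b i) * t ^ i := by
    rw [htn, eval₂_eq_sum_range' j.toRingHom hqdeg t]
    rfl
  have hφb : ∀ m (a : Fin n), φ m a (t ^ n) = co m (b a) := by
    intro m a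
    rw [htn', map_sum, Finset.sum_eq_single (a : ℕ)]
    · let Lb : MonoidAlgebra k M →ₗ[k] k := φ m a ∘ₗ LinearMap.mulRight k (t ^ (a : ℕ)) ∘ₗ j.toLinearMap
      have : Lb = co m := (MonoidAlgebra.basis M k).ext fun m' => by
        simp only [Lb, MonoidAlgebra.basis_apply, LinearMap.comp_apply, LinearMap.mulRight_apply,
          AlgHom.toLinearMap_apply]
        rw [hφ _ _ _ _ a.2, show (MonoidAlgebra.single m' 1 : MonoidAlgebra k M) = el k m' from rfl, co_el]
        simp
      exact LinearMap.congr_fun this (b a)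
    · intro i hi hia
      let Lb : MonoidAlgebra k M →ₗ[k] k := φ m a ∘ₗ LinearMap.mulRight k (t ^ i) ∘ₗ j.toLinearMap
      have : Lb = 0 := (MonoidAlgebra.basis M k).ext fun m' => by
        simp only [Lb, MonoidAlgebra.basis_apply, LinearMap.comp_apply, LinearMap.mulRight_apply,
          AlgHom.toLinearMap_apply, LinearMap.zero_apply]
        rw [show (MonoidAlgebra.single m' 1 : MonoidAlgebra k M) = el k m' from rfl,
          hφ _ _ _ _ (Finset.mem_range.1 hi), if_neg (fun h => hia h.2)]
      exact LinearMap.congr_fun this (b i)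
    · intro h; exact absurd (Finset.mem_range.2 a.2) h
  -- compare the coefficients of the comultiplication
  have hcmp : ∀ (γ η : M) (a c : Fin n),
      (n.choose a : k) * (if (a : ℕ) + c = n ∧ γ = 1 ∧ g ^ (a : ℕ) = η then 1 else 0) +
          co γ (b a) * (if (c : ℕ) = 0 ∧ η = g ^ n then 1 else 0) +
          (if (a : ℕ) = 0 ∧ γ = 1 then 1 else 0) * co η (b c) =
        if (a : ℕ) + c < n ∧ γ * g ^ (a : ℕ) = η then
          (((a : ℕ) + c).choose a : k) * co γ (b ((a : ℕ) + c)) else 0 := by
    intro γ η a c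
    let T : Q →ₗ[k] k := LinearMap.mul' k k ∘ₗ TensorProduct.map (φ γ a) (φ η c) ∘ₗ Δ.toLinearMap
    have hR : ∀ i < n, T (j (b i) * t ^ i) =
        if (a : ℕ) + c = i ∧ γ * g ^ (a : ℕ) = η then (i.choose a : k) * co γ (b i) else 0 := by
      intro i hi
      let Lb : MonoidAlgebra k M →ₗ[k] k := T ∘ₗ LinearMap.mulRight k (t ^ i) ∘ₗ j.toLinearMap
      let Rb : MonoidAlgebra k M →ₗ[k] k :=
        if (a : ℕ) + c = i ∧ γ * g ^ (a : ℕ) = η then (i.choose a : k) • co γ else 0
      have : Lb = Rb := (MonoidAlgebra.basis M k).ext fun m => by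
        simp only [Lb, Rb, MonoidAlgebra.basis_apply, LinearMap.comp_apply, LinearMap.mulRight_apply,
          AlgHom.toLinearMap_apply]
        show LinearMap.mul' k k (TensorProduct.map (φ γ a) (φ η c) (Δ (j (el k m) * t ^ i))) = _
        rw [map_monomial j t g Δ hΔj hΔt]
        by_cases hm : m = γ ∧ (a : ℕ) + c = i ∧ γ * g ^ (a : ℕ) = η
        · obtain ⟨rfl, hac, hη⟩ := hm
          rw [if_pos ⟨hac, hη⟩, Finset.sum_eq_single (a : ℕ)]
          · rw [hφ _ _ _ _ a.2, hφ _ _ _ _ (by omega), if_pos ⟨rfl, rfl⟩, if_pos ⟨hη, by omega⟩,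
              LinearMap.smul_apply, show (MonoidAlgebra.single m 1 : MonoidAlgebra k M) = el k m from rfl, co_el,
              if_pos rfl]
            simp
          · intro a' ha' hne
            rw [hφ _ _ _ _ (by rw [Finset.mem_range] at ha'; omega), if_neg (fun h => hne h.2)]; simp
          · intro h; exact absurd (Finset.mem_range.2 (by omega)) h
        · rw [Finset.sum_eq_zero]
          · split_ifs with h
            · rw [LinearMap.smul_apply, show (MonoidAlgebra.single m 1 : MonoidAlgebra k M) = el k m from rfl,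
                co_el, if_neg (fun h' => hm ⟨h', h⟩)]
              simp
            · rfl
          · intro a' ha'
            rw [Finset.mem_range] at ha'
            rw [hφ _ _ _ _ (by omega), hφ _ _ _ _ (by omega)]
            by_cases h1 : m = γ ∧ a' = (a : ℕ)
            · obtain ⟨rfl, rfl⟩ := h1
              rw [if_neg (fun h2 : m * g ^ (a : ℕ) = η ∧ i - (a : ℕ) = (c : ℕ) =>
                hm ⟨rfl, by omega, h2.1⟩)]
              simp
            · rw [if_neg h1]; simp
      have h1 := LinearMap.congr_fun this (b i)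
      simp only [Lb, Rb, LinearMap.comp_apply, LinearMap.mulRight_apply, AlgHom.toLinearMap_apply] at h1
      rw [h1]
      split_ifs <;> simp
    have hL : T (t ^ n) = (n.choose a : k) * (if (a : ℕ) + c = n ∧ γ = 1 ∧ g ^ (a : ℕ) = η then 1 else 0) +
        co γ (b a) * (if (c : ℕ) = 0 ∧ η = g ^ n then 1 else 0) +
        (if (a : ℕ) = 0 ∧ γ = 1 then 1 else 0) * co η (b c) := by
      have h1 := map_monomial j t g Δ hΔj hΔt (φ γ a) (φ η c) 1 n
      simp only [el_one, map_one, one_mul] at h1
      refine h1.trans ?_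
      rw [Finset.sum_range_succ, Nat.choose_self, Nat.cast_one, one_mul, Nat.sub_self, hφb]
      obtain ⟨n', rfl⟩ : ∃ n', n = n' + 1 := ⟨n - 1, by omega⟩
      rw [Finset.sum_range_succ', Nat.choose_zero_right, Nat.cast_one, one_mul, pow_zero (M := Q), mul_one,
        Nat.sub_zero, pow_zero g, el_one, map_one j, one_mul (t ^ (n' + 1)), hφb]
      have e5 := hφ η c (g ^ (n' + 1)) 0 (by omega)
      rw [pow_zero, mul_one] at e5
      rw [e5]
      have e1 : φ γ a (1 : Q) = if (a : ℕ) = 0 ∧ γ = 1 then (1 : k) else 0 := by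
        have := hφ γ a 1 0 (by omega)
        rw [el_one, map_one, pow_zero, mul_one] at this
        rw [this]
        exact if_congr ⟨fun h => ⟨h.2.symm, h.1.symm⟩, fun h => ⟨h.2.symm, h.1.symm⟩⟩ rfl rfl
      rw [e1]
      have e2 : ∀ i ∈ Finset.range n', ((n' + 1).choose (i + 1) : k) *
          (φ γ a (t ^ (i + 1)) * φ η c (j (el k (g ^ (i + 1))) * t ^ (n' + 1 - (i + 1)))) =
          if (a : ℕ) = i + 1 then
            ((n' + 1).choose a : k) * (if (a : ℕ) + c = n' + 1 ∧ γ = 1 ∧ g ^ (a : ℕ) = η then 1 else 0) else 0 := by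
        intro i hi
        rw [Finset.mem_range] at hi
        have h2 := hφ γ a 1 (i + 1) (by omega)
        rw [el_one, map_one, one_mul] at h2
        rw [h2, hφ _ _ _ _ (by omega)]
        by_cases ha : (a : ℕ) = i + 1
        · rw [if_pos ha, ha, ite_zero_mul_ite_zero, one_mul]
          congr 1
          exact if_congr ⟨fun ⟨⟨h3, _⟩, h5, h6⟩ => ⟨by omega, h3.symm, h5⟩,
            fun ⟨h3, h4, h5⟩ => ⟨⟨h4.symm, rfl⟩, h5, by omega⟩⟩ rfl rfl
        · rw [if_neg ha, if_neg (fun h => ha h.2.symm)]; simp
      rw [Finset.sum_congr rfl e2]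
      have e3 : (∑ i ∈ Finset.range n', if (a : ℕ) = i + 1 then
            ((n' + 1).choose a : k) * (if (a : ℕ) + c = n' + 1 ∧ γ = 1 ∧ g ^ (a : ℕ) = η then 1 else 0) else 0) =
          ((n' + 1).choose a : k) * (if (a : ℕ) + c = n' + 1 ∧ γ = 1 ∧ g ^ (a : ℕ) = η then 1 else 0) := by
        rcases Nat.eq_zero_or_pos (a : ℕ) with ha | ha
        · rw [Finset.sum_eq_zero fun i _ => if_neg (by omega), if_neg (fun h => by have := c.2; omega), mul_zero]
        · rw [Finset.sum_eq_single ((a : ℕ) - 1)]
          · rw [if_pos (by omega)]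
          · intro i _ hi; rw [if_neg (by omega)]
          · intro h; exact absurd (Finset.mem_range.2 (by omega)) h
      rw [e3]
      have e4 : (if g ^ (n' + 1) = η ∧ 0 = (c : ℕ) then (1 : k) else 0) =
          if (c : ℕ) = 0 ∧ η = g ^ (n' + 1) then 1 else 0 :=
        if_congr ⟨fun h => ⟨h.2.symm, h.1.symm⟩, fun h => ⟨h.2.symm, h.1.symm⟩⟩ rfl rfl
      rw [e4]
      ring
    rw [← hL, htn', map_sum, Finset.sum_congr rfl fun i hi => hR i (Finset.mem_range.1 hi)]
    by_cases h : (a : ℕ) + c < n ∧ γ * g ^ (a : ℕ) = η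
    · rw [if_pos h, Finset.sum_eq_single ((a : ℕ) + c)]
      · rw [if_pos ⟨rfl, h.2⟩]
      · intro i _ hi; rw [if_neg (fun h' => hi h'.1.symm)]
      · intro h'; exact absurd (Finset.mem_range.2 h.1) h'
    · rw [if_neg h]
      exact Finset.sum_eq_zero fun i hi => if_neg fun h' => h ⟨by rw [h'.1]; exact Finset.mem_range.1 hi, h'.2⟩
  let z : Fin n := ⟨0, hn⟩
  -- the coefficients of the monic relation
  have hscal : ∀ i : Fin n, (i : ℕ) ≠ 0 → ∀ γ, co γ (b i) ≠ 0 → γ = 1 ∧ g ^ (i : ℕ) = g ^ n := by
    intro i hi γ hγ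
    have hγ1 : γ = 1 := by
      by_contra h1
      have := hcmp γ γ z i
      simp [z, h1, hi] at this
      exact hγ this.symm
    subst hγ1
    refine ⟨rfl, ?_⟩
    by_contra h2
    have := hcmp 1 (g ^ n) i z
    simp [z, hi, h2, i.2.ne] at this
    exact hγ this
  have hchoose_n : ∀ a, 0 < a → a < n → (n.choose a : k) = 0 := by
    intro a ha han
    have := hcmp 1 (g ^ a) ⟨a, han⟩ ⟨n - a, by omega⟩
    simpa [show a + (n - a) = n by omega, ha.ne', show n - a ≠ 0 by omega] using this
  have hchoose : ∀ i : Fin n, (i : ℕ) ≠ 0 → co 1 (b i) ≠ 0 → ∀ a, 0 < a → a < (i : ℕ) → ((i : ℕ).choose a : k) = 0 := by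
    intro i hi hne a ha hai
    have := hcmp 1 (g ^ a) ⟨a, by omega⟩ ⟨(i : ℕ) - a, by omega⟩
    simp [show a + ((i : ℕ) - a) = i by omega, ha.ne', show (i : ℕ) - a ≠ 0 by omega, show (i : ℕ) ≠ n from i.2.ne,
      i.2] at this
    exact this.resolve_right hne
  have hbi : ∀ i : Fin n, (i : ℕ) ≠ 0 → b i = co 1 (b i) • 1 := fun i hi => ext_co fun m => by
    rw [map_smul, ← el_one, co_el, smul_eq_mul]
    by_cases hm : (1 : M) = m
    · subst hm; simp [el_one]
    · rw [if_neg hm, mul_zero]
      by_contra h0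
      exact hm ((hscal i hi m h0).1).symm
  obtain ⟨e, hb0⟩ : ∃ e : k, b 0 = e • (el k (g ^ n) - 1) := by
    have h0 : ∀ γ, γ ≠ 1 → γ ≠ g ^ n → co γ (b 0) = 0 := fun γ h1 h2 => by
      have := hcmp γ γ z z
      simpa [z, h1, h2, hn, hn.ne] using this.symm
    by_cases hgn : g ^ n = 1
    · refine ⟨0, ext_co fun m => ?_⟩
      rw [zero_smul, map_zero]
      by_cases hm : m = 1
      · subst hm
        have := hcmp 1 1 z z
        simpa [z, hn, hn.ne, hgn] using this
      · exact h0 m hm (hgn.symm ▸ hm)
    · refine ⟨co (g ^ n) (b 0), ext_co fun m => ?_⟩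
      rw [map_smul, map_sub, ← el_one, co_el, co_el, smul_eq_mul]
      by_cases hm : m = g ^ n
      · subst hm; rw [if_pos rfl, if_neg (Ne.symm hgn), sub_zero, mul_one]
      by_cases hm1 : m = 1
      · subst hm1
        rw [if_neg (Ne.symm hm), if_pos rfl]
        have := hcmp 1 (g ^ n) z z
        simp [z, hn, hn.ne, hgn, Ne.symm hgn] at this
        linear_combination this
      · rw [if_neg (Ne.symm hm), if_neg (Ne.symm hm1), h0 m hm1 hm]; ring
  let p : k[X] := ∑ i ∈ Finset.range n, Polynomial.C (if i = 0 then e else co 1 (b i)) * X ^ i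
  have hpdeg : p.natDegree < n := by
    refine lt_of_le_of_lt (natDegree_sum_le_of_forall_le _ _ (n := n - 1) fun i hi => ?_) (by omega)
    exact (natDegree_C_mul_X_pow_le _ _).trans (by rw [Finset.mem_range] at hi; omega)
  obtain ⟨c, hc⟩ : ∃ c, (X ^ n - p).IsRoot c := by
    refine IsAlgClosed.exists_root _ fun hd => ?_
    have h1 := natDegree_eq_of_degree_eq_some (n := 0) (by simpa using hd)
    rw [natDegree_sub_eq_left_of_natDegree_lt (by rwa [natDegree_X_pow]), natDegree_X_pow] at h1
    omega
  have hc' : c ^ n = ∑ i ∈ Finset.range n, (if i = 0 then e else co 1 (b i)) * c ^ i := by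
    simpa [p, sub_eq_zero, eval_finsetSum] using hc
  refine ⟨c, fun f hf => ?_⟩
  set x : MonoidAlgebra k M := el k g - 1 with hx
  have hxi : ∀ i, 0 < i → (∀ a, 0 < a → a < i → (i.choose a : k) = 0) → x ^ i = el k (g ^ i) - 1 := by
    intro i hi hch
    have h1 : ((1 : k) + -1) ^ i = 1 ^ i + (-1) ^ i := add_pow_eq _ _ hi hch
    rw [add_neg_cancel, zero_pow hi.ne', one_pow] at h1
    have h2 : (-1 : MonoidAlgebra k M) ^ i = -1 := by
      have h3 : (-1 : k) ^ i = -1 := by linear_combination -h1
      have := congrArg (algebraMap k (MonoidAlgebra k M)) h3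
      rwa [map_pow, map_neg, map_one] at this
    rw [hx, sub_eq_add_neg, add_pow_eq _ _ hi (fun a ha hai => by
      rw [← map_natCast (algebraMap k (MonoidAlgebra k M)), hch a ha hai, map_zero]), h2, el_pow, ← sub_eq_add_neg]
  have hPx : P.eval (c • x) = 0 := by
    rw [eval_sub, eval_pow, eval_X, eval_eq_sum_range' hqdeg, sub_eq_zero, smul_pow,
      hxi n hn hchoose_n, hc', Finset.sum_smul]
    refine Finset.sum_congr rfl fun i hi => ?_
    rw [Finset.mem_range] at hi
    change _ = b i * (c • x) ^ i
    split_ifs with hi0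
    · subst hi0; rw [pow_zero, mul_one, pow_zero, mul_one, hb0]
    · have hs : b i = co 1 (b i) • 1 := hbi ⟨i, hi⟩ hi0
      conv_rhs => rw [hs, smul_pow, smul_one_mul, smul_smul]
      by_cases h0 : co 1 (b i) = 0
      · simp [h0]
      · rw [hxi i (Nat.pos_of_ne_zero hi0) (hchoose ⟨i, hi⟩ hi0 h0), (hscal ⟨i, hi⟩ hi0 1 h0).2]
  have hPm : P.Monic := monic_X_pow_sub hqd
  have hrem : f %ₘ P = 0 := by
    refine hmin _ ?_ ?_
    · rw [modByMonic_eq_sub_mul_div, eval₂_sub, eval₂_mul, hP, zero_mul, sub_zero, hf]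
    · have hd : P.natDegree = n := by
        rw [natDegree_sub_eq_left_of_natDegree_lt (by rwa [natDegree_X_pow]), natDegree_X_pow]
      have := natDegree_modByMonic_lt f hPm (fun h => by rw [h, natDegree_one] at hd; omega)
      omega
  rw [← modByMonic_add_div f P, hrem, zero_add, eval_mul, hPx, zero_mul]

end Skew

section Cocycle

/-- The coefficient of a pair. -/
def co₂ (a b : M) : MonoidAlgebra k M ⊗[k] MonoidAlgebra k M →ₗ[k] k :=
  LinearMap.mul' k k ∘ₗ TensorProduct.map (co a) (co b)

/-- The coefficient of a triple. -/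
def co₃ (a b d : M) : MonoidAlgebra k M ⊗[k] (MonoidAlgebra k M ⊗[k] MonoidAlgebra k M) →ₗ[k] k :=
  LinearMap.mul' k k ∘ₗ TensorProduct.map (co a) (co₂ b d)

lemma ext_co₂ {x y : MonoidAlgebra k M ⊗[k] MonoidAlgebra k M} (h : ∀ a b, co₂ a b x = co₂ a b y) : x = y := by
  let B := (MonoidAlgebra.basis M k).tensorProduct (MonoidAlgebra.basis M k)
  refine B.repr.injective (Finsupp.ext fun p => ?_)
  have e : ∀ z, B.repr z p = co₂ p.1 p.2 z := fun z => by
    induction z using TensorProduct.induction_on with
    | zero => simp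
    | add u v hu hv => simp only [map_add, Finsupp.add_apply, hu, hv]
    | tmul u v =>
      rw [Module.Basis.tensorProduct_repr_tmul_apply, smul_eq_mul, mul_comm]
      rfl
  rw [e, e, h]

/-- Every twisted 2-cocycle on a group algebra is a coboundary. -/
theorem exists_coboundary (G : M) (ω : MonoidAlgebra k M ⊗[k] MonoidAlgebra k M)
    (h : TensorProduct.assoc k _ _ _ ((Coalgebra.comul (R := k)).rTensor _ ω + ω ⊗ₜ[k] el k G) =
      (Coalgebra.comul (R := k)).lTensor _ ω + (1 : MonoidAlgebra k M) ⊗ₜ[k] ω) :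
    ∃ x : MonoidAlgebra k M, Coalgebra.comul (R := k) x = x ⊗ₜ[k] el k G + 1 ⊗ₜ[k] x + ω := by
  classical
  have key : ∀ a b d : M,
      (if a = b then co₂ a d ω else 0) + co₂ a b ω * (if G = d then 1 else 0) =
      (if b = d then co₂ a b ω else 0) + (if 1 = a then 1 else 0) * co₂ b d ω := by
    intro a b d
    have h1 := congrArg (co₃ a b d) h
    rw [map_add, map_add, map_add] at h1
    have eL : ∀ z : MonoidAlgebra k M ⊗[k] MonoidAlgebra k M,
        co₃ a b d (TensorProduct.assoc k _ _ _ (z ⊗ₜ[k] el k G)) = co₂ a b z * (if G = d then 1 else 0) := fun z => by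
      induction z using TensorProduct.induction_on with
      | zero => simp
      | add u v hu hv => simp only [map_add, add_tmul, hu, hv, add_mul]
      | tmul u v => simp [co₃, co₂, co_el, mul_assoc]
    have eR : co₃ a b d ((1 : MonoidAlgebra k M) ⊗ₜ[k] ω) = (if 1 = a then 1 else 0) * co₂ b d ω := by
      simp [co₃, ← el_one, co_el]
    have hc : ∀ (p q : M) (u : MonoidAlgebra k M),
        co₂ p q (Coalgebra.comul (R := k) u) = if p = q then co p u else 0 := fun p q u => by
      let Lb : MonoidAlgebra k M →ₗ[k] k := co₂ p q ∘ₗ Coalgebra.comul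
      let Rb : MonoidAlgebra k M →ₗ[k] k := if p = q then co p else 0
      have : Lb = Rb := (MonoidAlgebra.basis M k).ext fun m => by
        simp only [Lb, Rb, MonoidAlgebra.basis_apply, LinearMap.comp_apply]
        rw [show (MonoidAlgebra.single m 1 : MonoidAlgebra k M) = el k m from rfl, comul_el]
        split_ifs with hpq
        · subst hpq; simp [co₂, co_el]
        · simp only [co₂, LinearMap.comp_apply, TensorProduct.map_tmul, LinearMap.mul'_apply, co_el,
            LinearMap.zero_apply]
          by_cases h1 : m = p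
          · subst h1; simp [hpq]
          · simp [h1]
      have h2 := LinearMap.congr_fun this u
      simp only [Lb, Rb, LinearMap.comp_apply] at h2
      rw [h2]; split_ifs <;> simp
    have e1 : ∀ z, co₃ a b d (TensorProduct.assoc k _ _ _ ((Coalgebra.comul (R := k)).rTensor (MonoidAlgebra k M) z)) =
        if a = b then co₂ a d z else 0 := fun z => by
      induction z using TensorProduct.induction_on with
      | zero => simp
      | add u v hu hv => simp only [map_add, hu, hv]; split_ifs <;> simp
      | tmul u v =>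
        rw [LinearMap.rTensor_tmul]
        have e' : ∀ s : MonoidAlgebra k M ⊗[k] MonoidAlgebra k M,
            co₃ a b d (TensorProduct.assoc k _ _ _ (s ⊗ₜ[k] v)) = co₂ a b s * co d v := fun s => by
          induction s using TensorProduct.induction_on with
          | zero => simp
          | add p q hp hq => simp only [map_add, add_tmul, hp, hq, add_mul]
          | tmul p q => simp [co₃, co₂, mul_assoc]
        rw [e', hc]
        split_ifs <;> simp [co₂]
    have e2 : ∀ z, co₃ a b d ((Coalgebra.comul (R := k)).lTensor (MonoidAlgebra k M) z) =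
        if b = d then co₂ a b z else 0 := fun z => by
      induction z using TensorProduct.induction_on with
      | zero => simp
      | add u v hu hv => simp only [map_add, hu, hv]; split_ifs <;> simp
      | tmul u v =>
        rw [LinearMap.lTensor_tmul]
        simp only [co₃, LinearMap.comp_apply, TensorProduct.map_tmul, LinearMap.mul'_apply, hc]
        split_ifs <;> simp [co₂]
    rwa [e1, eL, e2, eR] at h1
  let x : MonoidAlgebra k M := (MonoidAlgebra.basis M k).repr.symm (Finsupp.ofSupportFinite
    (fun a => if a = 1 then -(co₂ 1 G ω) else co₂ a a ω) (by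
      let B := (MonoidAlgebra.basis M k).tensorProduct (MonoidAlgebra.basis M k)
      refine Set.Finite.subset ((B.repr ω).support.image Prod.fst ∪ {1}).finite_toSet fun a ha => ?_
      rw [Finset.coe_union, Finset.coe_singleton]
      by_cases h1 : a = 1
      · exact Or.inr h1
      · left
        simp only [Function.mem_support, if_neg h1] at ha
        refine Finset.mem_image.2 ⟨(a, a), Finsupp.mem_support_iff.2 fun h0 => ha ?_, rfl⟩
        have e : ∀ z, B.repr z (a, a) = co₂ a a z := fun z => by
          induction z using TensorProduct.induction_on with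
          | zero => simp
          | add u v hu hv => simp only [map_add, Finsupp.add_apply, hu, hv]
          | tmul u v => rw [Module.Basis.tensorProduct_repr_tmul_apply, smul_eq_mul, mul_comm]; rfl
        rw [← e, h0]))
  have hxco : ∀ a, co a x = if a = 1 then -(co₂ 1 G ω) else co₂ a a ω := fun a => by
    simp only [co, x, Module.Basis.coord_apply, LinearEquiv.apply_symm_apply]
    rfl
  have hxc : ∀ p q, co₂ p q (Coalgebra.comul (R := k) x) = if p = q then co p x else 0 := fun p q => by
    let Lb : MonoidAlgebra k M →ₗ[k] k := co₂ p q ∘ₗ Coalgebra.comul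
    let Rb : MonoidAlgebra k M →ₗ[k] k := if p = q then co p else 0
    have : Lb = Rb := (MonoidAlgebra.basis M k).ext fun m => by
      simp only [Lb, Rb, MonoidAlgebra.basis_apply, LinearMap.comp_apply]
      rw [show (MonoidAlgebra.single m 1 : MonoidAlgebra k M) = el k m from rfl, comul_el]
      split_ifs with hpq
      · subst hpq; simp [co₂, co_el]
      · simp only [co₂, LinearMap.comp_apply, TensorProduct.map_tmul, LinearMap.mul'_apply, co_el,
          LinearMap.zero_apply]
        by_cases h1 : m = p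
        · subst h1; simp [hpq]
        · simp [h1]
    have h2 := LinearMap.congr_fun this x
    simp only [Lb, Rb, LinearMap.comp_apply] at h2
    rw [h2]; split_ifs <;> simp
  refine ⟨x, ext_co₂ fun a b => ?_⟩
  have e3 : co₂ a b (x ⊗ₜ[k] el k G) = co a x * (if G = b then 1 else 0) := by simp [co₂, co_el]
  have e4 : co₂ a b ((1 : MonoidAlgebra k M) ⊗ₜ[k] x) = (if 1 = a then 1 else 0) * co b x := by
    simp [co₂, ← el_one, co_el]
  rw [map_add, map_add, hxc, e3, e4, hxco, hxco]
  by_cases hab : a = b
  · subst hab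
    rw [if_pos rfl]
    by_cases ha : a = 1
    · subst ha
      by_cases hG : G = 1
      · subst hG; simp
      · have h0 := key 1 1 1
        rw [if_neg hG, if_pos rfl, if_pos rfl] at h0
        rw [if_pos rfl, if_pos rfl, if_neg hG]
        linear_combination h0
    · rw [if_neg ha, if_neg (Ne.symm ha)]
      by_cases haG : G = a
      · subst haG
        have h0 := key G G G
        rw [if_pos rfl, if_pos rfl, if_neg (Ne.symm ha)] at h0
        rw [if_pos rfl]
        linear_combination -h0
      · rw [if_neg haG]; ring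
  · rw [if_neg hab]
    by_cases ha : a = 1
    · subst ha
      have hb : b ≠ 1 := Ne.symm hab
      rw [if_pos rfl, if_pos rfl, if_neg hb]
      by_cases hGb : G = b
      · subst hGb
        have h0 := key G G G
        rw [if_pos rfl, if_pos rfl, if_neg hab] at h0
        rw [if_pos rfl]
        linear_combination -h0
      · have h0 := key 1 b b
        rw [if_neg hab, if_neg hGb, if_pos rfl, if_pos rfl] at h0
        rw [if_neg hGb]
        linear_combination h0
    · rw [if_neg ha, if_neg (Ne.symm ha)]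
      by_cases hGb : G = b
      · subst hGb
        have h0 := key a a G
        rw [if_pos rfl, if_pos rfl, if_neg hab, if_neg (Ne.symm ha)] at h0
        rw [if_pos rfl]
        linear_combination -h0
      · have h0 := key a a b
        rw [if_pos rfl, if_neg hGb, if_neg hab, if_neg (Ne.symm ha)] at h0
        rw [if_neg hGb]
        linear_combination -h0

end Cocycle

end Groth.Agent.CohDer1.PointedSplit
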