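import Groth.Agent.HopfQuot.CocommDiag
import Groth.Agent.HopfQuot.Trigonalizable
import Groth.Agent.HopfLib.Integral
import Groth.Agent.CohDer1.PointedSplit.Skew

/-!
# Skew primitive elements modulo a Hopf subalgebra
-/

set_option autoImplicit false

noncomputable section

open TensorProduct HopfRep
open Groth.Agent.HopfLib Groth.Agent.HopfQuot

universe u

namespace Groth.Agent.CohDer1.PointedSplit

variable {k : Type u} [Field k] {M : Type u} [CommGroup M] {A : Type u} [CommRing A] [HopfAlgebra k A]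

/-- A group-like element is trivial on a unipotent group. -/
theorem groupLike_eq_one_of_isUnipotent {H : Type u} [CommRing H] [Bialgebra k H] (hU : IsUnipotent k H)
    {χ : H} (hχ : IsGroupLikeElem k χ) : χ = 1 := by
  let c : Comod k H k :=
    { coact := (TensorProduct.mk k k H).flip χ
      coassoc := by
        refine LinearMap.ext fun v => ?_
        simp [hχ.comul_eq_tmul_self]
      counit_comp := by
        refine LinearMap.ext fun v => ?_
        simp [hχ.counit_eq_one] }
  obtain ⟨v, hv, hv0⟩ := Submodule.exists_mem_ne_zero_of_ne_bot (@hU k _ _ c inferInstance inferInstance)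
  have h : v ⊗ₜ[k] χ = v ⊗ₜ[k] (1 : H) := hv
  have h1 := congrArg (TensorProduct.lid k H) h
  simp only [TensorProduct.lid_tmul] at h1
  exact smul_right_injective H hv0 h1

theorem isDiagonalizable_monoidAlgebra : IsDiagonalizable k (MonoidAlgebra k M) := by
  rw [IsDiagonalizable, _root_.eq_top_iff]
  intro x _
  rw [← (MonoidAlgebra.basis M k).linearCombination_repr x, Finsupp.linearCombination_apply]
  refine Submodule.sum_mem _ fun m _ => Submodule.smul_mem _ _ (Submodule.subset_span ?_)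
  rw [MonoidAlgebra.basis_apply]
  exact MonoidAlgebra.isGroupLikeElem_single_one m

variable (φ : MonoidAlgebra k M →ₐc[k] A)

/-- The image of the group algebra. -/
abbrev base : Subalgebra k A := (φ : MonoidAlgebra k M →ₐ[k] A).range

theorem isHopfSubalgebra_base : SGA3.IsHopfSubalgebra k A (base φ) := by
  refine ⟨?_, ?_⟩
  · rintro _ ⟨b, rfl⟩
    show CoalgebraStruct.comul (R := k) ((φ : MonoidAlgebra k M →ₐ[k] A) b) ∈ _
    rw [show CoalgebraStruct.comul (R := k) ((φ : MonoidAlgebra k M →ₐ[k] A) b) = _ from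
      (CoalgHomClass.map_comp_comul_apply φ b).symm]
    generalize CoalgebraStruct.comul (R := k) b = t
    induction t using TensorProduct.induction_on with
    | zero => simp
    | add p q hp hq => rw [map_add]; exact add_mem hp hq
    | tmul p q => exact ⟨(⟨_, p, rfl⟩ : base φ) ⊗ₜ (⟨_, q, rfl⟩ : base φ), rfl⟩
  · rintro _ ⟨b, rfl⟩
    exact ⟨_, map_antipode' φ b⟩

variable (J : Ideal A) [J.IsHopfIdeal k]

theorem eq_augIdealSpan (hJ : J = Ideal.map (φ : MonoidAlgebra k M →+* A)
      (RingHom.ker (Bialgebra.counitAlgHom k (MonoidAlgebra k M)))) :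
    J = SGA3.augIdealSpan k A (base φ) := by
  rw [hJ]
  refine congrArg Ideal.span (Set.ext fun a => ⟨?_, ?_⟩)
  · rintro ⟨b, hb, rfl⟩
    exact ⟨⟨b, rfl⟩, (CoalgHomClass.counit_comp_apply φ b).trans hb⟩
  · rintro ⟨⟨b, rfl⟩, hb⟩
    exact ⟨b, (CoalgHomClass.counit_comp_apply φ b).symm.trans hb, rfl⟩

/-- Every group-like element comes from the group. -/
theorem exists_eq_el (hφ : Function.Injective φ) (hJ : J = Ideal.map (φ : MonoidAlgebra k M →+* A)
      (RingHom.ker (Bialgebra.counitAlgHom k (MonoidAlgebra k M))))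
    (hU : IsUnipotent k (A ⧸ J)) {g : A} (hg : IsGroupLikeElem k g) : ∃ m, g = φ (el k m) := by
  have hπ : Ideal.Quotient.mk J g = 1 :=
    groupLike_eq_one_of_isUnipotent hU (hg.map (Bialgebra.Quotient.mkBialgHom (R := k) J))
  have hmem : g ∈ invAlg k J := by
    rw [mem_invAlg, shift_eq, hg.comul_eq_tmul_self, LinearMap.lTensor_tmul]
    exact congrArg (g ⊗ₜ[k] ·) hπ
  rw [eq_augIdealSpan φ J hJ, invAlg_eq_of_augIdealSpan (isHopfSubalgebra_base φ)] at hmem
  obtain ⟨b, hb⟩ := hmem
  have hb' : φ b = g := hb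
  have hinj : Function.Injective (TensorProduct.map (φ : MonoidAlgebra k M →ₐ[k] A).toLinearMap
      (φ : MonoidAlgebra k M →ₐ[k] A).toLinearMap) := by
    rw [← LinearMap.lTensor_comp_rTensor, LinearMap.coe_comp]
    exact (Module.Flat.lTensor_preserves_injective_linearMap _ hφ).comp
      (Module.Flat.rTensor_preserves_injective_linearMap _ hφ)
  have hbg : IsGroupLikeElem k b := by
    refine ⟨?_, hinj ?_⟩
    · rw [← CoalgHomClass.counit_comp_apply φ b, hb', hg.counit_eq_one]
    · refine (CoalgHomClass.map_comp_comul_apply φ b).trans ?_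
      rw [hb', hg.comul_eq_tmul_self, ← hb']
      rfl
  obtain ⟨m, hm⟩ := MonoidAlgebra.isGroupLikeElem_iff_mem_range_single_one.1 hbg
  exact ⟨m, by rw [← hb', ← hm]⟩

/-- A vector in a stable subspace which is an eigenvector modulo a subcomodule. -/
theorem exists_eigen_mem (hT : IsTrigonalizable k A) {S W : Submodule k A}
    (hS : IsSubcomod (k := k) (A := A) S) (hW : IsSubcomod (k := k) (A := A) W) (hne : ¬ W ≤ S) :
    ∃ (g y : A), IsGroupLikeElem k g ∧ y ∈ W ⊔ S ∧ y ∉ S ∧ ∀ f : A →ₗ[k] k, hitR f y - f g • y ∈ S := by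
  classical
  let cQ := ComodSub.Comod.quot (Comod.regular k A) S hS
  have hq : Hoch.IsComodHom A S.mkQ := ComodSub.isComodHom_mkQ (Comod.regular k A) S hS
  obtain ⟨w, hw, hwS⟩ := SetLike.not_le_iff_exists.1 hne
  obtain ⟨U, hUfin, hwU, hUs⟩ := exists_finite_subcomod (k := k) (A := A) ({S.mkQ w} : Set (A ⧸ S))
    (Set.finite_singleton _)
  let U' : Submodule k (A ⧸ S) := U ⊓ W.map S.mkQ
  have hU's : IsSubcomod (k := k) (A := A) U' := isSubcomod_inf hUs (isSubcomod_map hq hW)
  have : Module.Finite k U := hUfin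
  have : Module.Finite k U' := Submodule.finiteDimensional_of_le inf_le_left
  let cU := ComodSub.Comod.restr cQ U' hU's
  have : Nontrivial U' := ⟨⟨⟨S.mkQ w, hwU rfl, w, hw, rfl⟩, 0,
    fun h => hwS ((Submodule.Quotient.mk_eq_zero S).1 (congrArg Subtype.val h))⟩⟩
  obtain ⟨L, -, hL⟩ := exists_isSimpleSub_le (k := k) (A := A) (isSubcomod_top (V := U')) top_ne_bot
  let cL := ComodSub.Comod.restr cU L hL.1
  have hL1 : Module.finrank k L = 1 := hT L inferInstance (isSimpleComod_restr hL)
  have : Nontrivial L := Module.nontrivial_of_finrank_eq_succ hL1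
  obtain ⟨m, hm⟩ := exists_ne (0 : L)
  obtain ⟨g, hg, hmg⟩ := @exists_groupLike_eigen' k _ A _ _ L _ _ cL hL1 m hm
  obtain ⟨y, hyW, hy⟩ := ((m : U').2).2
  refine ⟨g, y, hg, Submodule.mem_sup_left hyW, fun hyS => hm ?_,
    fun f => (Submodule.Quotient.mk_eq_zero S).1 ?_⟩
  · refine Subtype.ext (Subtype.ext ?_)
    rw [← hy]
    exact (Submodule.Quotient.mk_eq_zero S).2 hyS
  · show S.mkQ (hit (V := A) f y - f g • y) = 0
    have h1 : hit f m = f g • m := by rw [hit_apply, hmg, sliceR_tmul]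
    have h2 : hit f ((m : U') : A ⧸ S) = f g • ((m : U') : A ⧸ S) := by
      refine (hit_restr (c := cQ) hU's f (m : U')).symm.trans ?_
      refine (congrArg Subtype.val (hit_restr (c := cU) hL.1 f m).symm).trans ?_
      rw [h1]
      rfl
    rw [map_sub, map_smul, IsComodHom.hit_apply hq, hy, h2, sub_self]

theorem sliceL_map_antipode_comm (f : A →ₗ[k] k) (x : A ⊗[k] A) :
    sliceL f (TensorProduct.map (HopfAlgebraStruct.antipode k) (HopfAlgebraStruct.antipode k)
        (TensorProduct.comm k A A x)) =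
      HopfAlgebraStruct.antipode k (sliceR (f ∘ₗ HopfAlgebraStruct.antipode k) x) := by
  induction x using TensorProduct.induction_on with
  | zero => simp
  | add p q hp hq => simp only [map_add, hp, hq]
  | tmul p q => simp

/-- A skew primitive element modulo a Hopf subalgebra. -/
theorem exists_skew_mod (hφ : Function.Injective φ) (hJ : J = Ideal.map (φ : MonoidAlgebra k M →+* A)
      (RingHom.ker (Bialgebra.counitAlgHom k (MonoidAlgebra k M))))
    (hU : IsUnipotent k (A ⧸ J)) {S : Subalgebra k A} (hS : SGA3.IsHopfSubalgebra k A S) (hle : base φ ≤ S)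
    (hne : S ≠ ⊤) :
    ∃ (t : A) (G : M), t ∉ S ∧
      CoalgebraStruct.comul (R := k) t - t ⊗ₜ[k] φ (el k G) - (1 : A) ⊗ₜ[k] t ∈
        LinearMap.range (TensorProduct.map S.val.toLinearMap S.val.toLinearMap) := by
  have hT : IsTrigonalizable k A := isTrigonalizable_of_exists φ J hφ isDiagonalizable_monoidAlgebra hJ hU
  let P : Submodule k A := Subalgebra.toSubmodule S
  have hP : ∀ f : A →ₗ[k] k, ∀ s ∈ P, hitR f s ∈ P ∧ hitL f s ∈ P :=
    (comul_mem_range_map_iff P).1 hS.1
  have hPs : IsSubcomod (k := k) (A := A) P := isSubcomod_iff_hit.2 fun f s hs => (hP f s hs).1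
  have htop : ¬ (⊤ : Submodule k A) ≤ P := fun h => hne (_root_.eq_top_iff.2 fun x _ => h Submodule.mem_top)
  obtain ⟨g, y, hg, -, hyS, hy⟩ := exists_eigen_mem hT hPs isSubcomod_top htop
  -- transport to the left by the antipode
  let h : A := HopfAlgebraStruct.antipode k g
  have hh : IsGroupLikeElem k h := hg.antipode
  let W : Submodule k A := ⨅ f : A →ₗ[k] k, P.comap (hitL f - f h • LinearMap.id)
  have hWmem : ∀ z, z ∈ W ↔ ∀ f : A →ₗ[k] k, hitL f z - f h • z ∈ P := fun z => by simp [W]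
  have hWs : IsSubcomod (k := k) (A := A) W := isSubcomod_iff_hit.2 fun f z hz => by
    rw [hWmem] at hz ⊢
    intro f'
    show hitL f' (hitR f z) - f' h • hitR f z ∈ P
    rw [← hitR_hitL, ← map_smul, ← map_sub]
    exact (hP f _ (hz f')).1
  have hWP : ¬ W ≤ P := fun hle' => by
    have hz : HopfAlgebraStruct.antipode k y ∈ W := (hWmem _).2 fun f => by
      rw [hitL, LinearMap.comp_apply, comul_antipode, sliceL_map_antipode_comm]
      show HopfAlgebraStruct.antipode k _ - f (HopfAlgebraStruct.antipode k g) • _ ∈ P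
      rw [← map_smul, ← map_sub]
      exact hS.2 _ (hy (f ∘ₗ HopfAlgebraStruct.antipode k))
    have h2 := hS.2 _ (hle' hz)
    rw [antipode_antipode] at h2
    exact hyS h2
  obtain ⟨g', y', hg', hy'WP, hy'S, hy'⟩ := exists_eigen_mem hT hPs hWs hWP
  obtain ⟨b, hb⟩ := exists_eq_el φ J hφ hJ hU hh
  obtain ⟨a, ha⟩ := exists_eq_el φ J hφ hJ hU hg'
  have hφS : ∀ d, φ d ∈ S := fun d => hle ⟨d, rfl⟩
  have hy'W : ∀ f : A →ₗ[k] k, hitL f y' - f h • y' ∈ P := by
    intro f
    obtain ⟨p, hp, q, hq, rfl⟩ := Submodule.mem_sup.1 hy'WP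
    rw [map_add, smul_add, add_sub_add_comm]
    exact add_mem ((hWmem p).1 hp f) (sub_mem (hP f q hq).2 (Submodule.smul_mem _ _ hq))
  have hX : CoalgebraStruct.comul (R := k) y' - y' ⊗ₜ[k] g' - h ⊗ₜ[k] y' ∈
      LinearMap.range (TensorProduct.map P.subtype P.subtype) := by
    refine mem_range_map_subtype_iff.2 ⟨fun f => ?_, fun f => ?_⟩
    · rw [map_sub, map_sub, sliceR_tmul, sliceR_tmul]
      exact sub_mem (hy' f) (Submodule.smul_mem _ _ (hb ▸ hφS _))
    · rw [map_sub, map_sub, sliceL_tmul, sliceL_tmul, sub_right_comm]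
      exact sub_mem (hy'W f) (Submodule.smul_mem _ _ (ha ▸ hφS _))
  obtain ⟨z, hz⟩ := hX
  refine ⟨φ (el k b⁻¹) * y', b⁻¹ * a, fun hmem => hy'S ?_, ?_⟩
  · have := S.mul_mem (hφS (el k b)) hmem
    rwa [← mul_assoc, ← map_mul, el_mul, mul_inv_cancel, el_one, map_one, one_mul] at this
  · let u : S := ⟨φ (el k b⁻¹), hφS _⟩
    let w : S ⊗[k] S := z
    refine ⟨(u ⊗ₜ[k] u) * w, ?_⟩
    show Algebra.TensorProduct.map S.val S.val ((u ⊗ₜ[k] u) * w) = _
    rw [map_mul, Algebra.TensorProduct.map_tmul]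
    have hw : Algebra.TensorProduct.map S.val S.val w =
        CoalgebraStruct.comul (R := k) y' - y' ⊗ₜ[k] g' - h ⊗ₜ[k] y' := hz
    have hu : CoalgebraStruct.comul (R := k) (φ (el k b⁻¹)) = φ (el k b⁻¹) ⊗ₜ[k] φ (el k b⁻¹) :=
      ((MonoidAlgebra.isGroupLikeElem_single_one b⁻¹).map φ).comul_eq_tmul_self
    rw [hw, Bialgebra.comul_mul, hu]
    simp only [u, Subalgebra.coe_val, mul_sub, Algebra.TensorProduct.tmul_mul_tmul, ha, hb, ← map_mul, el_mul,
      inv_mul_cancel, el_one, map_one]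

end Groth.Agent.CohDer1.PointedSplit
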