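import Groth.Agent.CohDer1.PointedSplit.Eigen
import Mathlib.RingTheory.Flat.FaithfullyFlat.Algebra

/-!
# Extending a retraction along a skew primitive element
-/

set_option autoImplicit false

noncomputable section

open TensorProduct HopfRep Polynomial
open scoped Polynomial
open Groth.Agent.HopfLib Groth.Agent.HopfQuot

universe u

namespace Groth.Agent.CohDer1.PointedSplit

variable {k : Type u} [Field k] {M : Type u} [CommGroup M] {A : Type u} [CommRing A] [HopfAlgebra k A]

/-- A retraction defined on a Hopf subalgebra. -/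
structure IsPartialRetr (φ : MonoidAlgebra k M →ₐc[k] A) (S : Subalgebra k A)
    (ρ : A →ₗ[k] MonoidAlgebra k M) : Prop where
  hopf : SGA3.IsHopfSubalgebra k A S
  le : base φ ≤ S
  retr : ∀ d, ρ (φ d) = d
  map_mul : ∀ s ∈ S, ∀ t ∈ S, ρ (s * t) = ρ s * ρ t
  comul : ∀ s ∈ S, Coalgebra.comul (R := k) (ρ s) = TensorProduct.map ρ ρ (Coalgebra.comul (R := k) s)
  counit : ∀ s ∈ S, Coalgebra.counit (R := k) (ρ s) = Coalgebra.counit (R := k) s

/-- A linear map factors through another one when the kernels are nested. -/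
lemma exists_comp_eq {U V W : Type*} [AddCommGroup U] [Module k U] [AddCommGroup V] [Module k V]
    [AddCommGroup W] [Module k W] (L : U →ₗ[k] V) (e : U →ₗ[k] W) (h : ∀ x, L x = 0 → e x = 0) :
    ∃ ρ : V →ₗ[k] W, ∀ x, ρ (L x) = e x := by
  obtain ⟨ρ, hρ⟩ := ((L.ker.liftQ e fun x hx => h x hx) ∘ₗ L.quotKerEquivRange.symm.toLinearMap).exists_extend
  refine ⟨ρ, fun x => ?_⟩
  have h1 := LinearMap.congr_fun hρ ⟨L x, x, rfl⟩
  simp only [LinearMap.comp_apply, Submodule.subtype_apply, LinearEquiv.coe_coe] at h1
  rw [h1, LinearMap.quotKerEquivRange_symm_apply_image, Submodule.mkQ_apply, Submodule.liftQ_apply]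

section Assoc

/-- The defect of a skew primitive element is a twisted cocycle. -/
lemma cocycle_of_skew (t g : A) (hg : IsGroupLikeElem k g) :
    TensorProduct.assoc k A A A ((Coalgebra.comul (R := k)).rTensor A
        (Coalgebra.comul (R := k) t - t ⊗ₜ[k] g - (1 : A) ⊗ₜ[k] t) +
          (Coalgebra.comul (R := k) t - t ⊗ₜ[k] g - (1 : A) ⊗ₜ[k] t) ⊗ₜ[k] g) =
      (Coalgebra.comul (R := k)).lTensor A (Coalgebra.comul (R := k) t - t ⊗ₜ[k] g - (1 : A) ⊗ₜ[k] t) +
        (1 : A) ⊗ₜ[k] (Coalgebra.comul (R := k) t - t ⊗ₜ[k] g - (1 : A) ⊗ₜ[k] t) := by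
  simp only [map_add, map_sub, LinearMap.rTensor_tmul, LinearMap.lTensor_tmul, hg.comul_eq_tmul_self,
    Bialgebra.comul_one, Algebra.TensorProduct.one_def, TensorProduct.sub_tmul, TensorProduct.tmul_sub,
    TensorProduct.assoc_tmul, Coalgebra.coassoc_apply]
  abel

end Assoc

variable {φ : MonoidAlgebra k M →ₐc[k] A} {S : Subalgebra k A} {ρ : A →ₗ[k] MonoidAlgebra k M}

namespace IsPartialRetr

lemma map_one (h : IsPartialRetr φ S ρ) : ρ 1 = 1 := by
  rw [← _root_.map_one φ, h.retr]

/-- The retraction as an algebra map. -/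
def alg (h : IsPartialRetr φ S ρ) : S →ₐ[k] MonoidAlgebra k M :=
  AlgHom.ofLinearMap (ρ ∘ₗ S.val.toLinearMap) h.map_one fun s t => h.map_mul _ s.2 _ t.2

lemma alg_apply (h : IsPartialRetr φ S ρ) (s : S) : h.alg s = ρ s := rfl

lemma map_map (h : IsPartialRetr φ S ρ) (z : S ⊗[k] S) :
    TensorProduct.map ρ ρ (Algebra.TensorProduct.map S.val S.val z) = Algebra.TensorProduct.map h.alg h.alg z := by
  induction z using TensorProduct.induction_on with
  | zero => simp
  | add p q hp hq => simp only [map_add, hp, hq]
  | tmul p q => rfl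

lemma exists_comul (h : IsPartialRetr φ S ρ) (s : S) : ∃ z : S ⊗[k] S,
    Algebra.TensorProduct.map S.val S.val z = Coalgebra.comul (R := k) (s : A) ∧
      Algebra.TensorProduct.map h.alg h.alg z = Coalgebra.comul (R := k) (h.alg s) := by
  obtain ⟨z, hz⟩ := h.hopf.1 s s.2
  have hz' : Algebra.TensorProduct.map S.val S.val z = Coalgebra.comul (R := k) (s : A) := hz
  exact ⟨z, hz', by rw [← h.map_map, hz', h.alg_apply, h.comul s s.2]⟩

theorem exists_gt [IsAlgClosed k] (h : IsPartialRetr φ S ρ) (t : A) (G : M) (htS : t ∉ S)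
    (ht : Coalgebra.comul (R := k) t - t ⊗ₜ[k] φ (el k G) - (1 : A) ⊗ₜ[k] t ∈
      LinearMap.range (TensorProduct.map S.val.toLinearMap S.val.toLinearMap)) :
    ∃ (S' : Subalgebra k A) (ρ' : A →ₗ[k] MonoidAlgebra k M), S < S' ∧ IsPartialRetr φ S' ρ' := by
  classical
  have hφS : ∀ d, φ d ∈ S := fun d => h.le ⟨d, rfl⟩
  obtain ⟨Ω, hX⟩ := ht
  have hX' : Algebra.TensorProduct.map S.val S.val Ω =
      Coalgebra.comul (R := k) t - t ⊗ₜ[k] φ (el k G) - (1 : A) ⊗ₜ[k] t := hX
  let ω := Algebra.TensorProduct.map h.alg h.alg Ω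
  have hρG : ρ (φ (el k G)) = el k G := h.retr _
  -- the defect is a cocycle
  have hcoc : TensorProduct.assoc k _ _ _ ((Coalgebra.comul (R := k)).rTensor _ ω + ω ⊗ₜ[k] el k G) =
      (Coalgebra.comul (R := k)).lTensor _ ω + (1 : MonoidAlgebra k M) ⊗ₜ[k] ω := by
    have h0 := congrArg (TensorProduct.map ρ (TensorProduct.map ρ ρ))
      (cocycle_of_skew t (φ (el k G)) ((MonoidAlgebra.isGroupLikeElem_single_one G).map φ))
    rw [← hX', map_add, map_add, map_add] at h0
    have e1 : ∀ (w : A ⊗[k] A) (q : A), TensorProduct.map ρ (TensorProduct.map ρ ρ)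
        (TensorProduct.assoc k A A A (w ⊗ₜ[k] q)) =
        TensorProduct.assoc k _ _ _ (TensorProduct.map ρ ρ w ⊗ₜ[k] ρ q) := fun w q => by
      induction w using TensorProduct.induction_on with
      | zero => simp
      | add a b ha hb => simp only [map_add, TensorProduct.add_tmul, ha, hb]
      | tmul a b => rfl
    have e2 : ∀ z : S ⊗[k] S, TensorProduct.map ρ (TensorProduct.map ρ ρ) (TensorProduct.assoc k A A A
        ((Coalgebra.comul (R := k)).rTensor A (Algebra.TensorProduct.map S.val S.val z))) =
        TensorProduct.assoc k _ _ _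
          ((Coalgebra.comul (R := k)).rTensor _ (Algebra.TensorProduct.map h.alg h.alg z)) := fun z => by
      induction z using TensorProduct.induction_on with
      | zero => simp
      | add a b ha hb => simp only [map_add, ha, hb]
      | tmul a b =>
        simp only [Algebra.TensorProduct.map_tmul, LinearMap.rTensor_tmul, e1, Subalgebra.coe_val, h.alg_apply,
          h.comul a a.2]
    have e3 : ∀ z : S ⊗[k] S, TensorProduct.map ρ (TensorProduct.map ρ ρ)
        ((Coalgebra.comul (R := k)).lTensor A (Algebra.TensorProduct.map S.val S.val z)) =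
        (Coalgebra.comul (R := k)).lTensor _ (Algebra.TensorProduct.map h.alg h.alg z) := fun z => by
      induction z using TensorProduct.induction_on with
      | zero => simp
      | add a b ha hb => simp only [map_add, ha, hb]
      | tmul a b =>
        simp only [Algebra.TensorProduct.map_tmul, LinearMap.lTensor_tmul, TensorProduct.map_tmul,
          Subalgebra.coe_val, h.alg_apply, h.comul b b.2]
    rw [e2, e3, e1, h.map_map, hρG, TensorProduct.map_tmul, h.map_map, h.map_one, ← map_add] at h0
    exact h0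
  obtain ⟨x₀, hx₀⟩ := exists_coboundary G ω hcoc
  -- the quotient by the kernel of the retraction
  have := faithfullyFlat_hopfSubalgebra h.hopf
  let I : Ideal A := (RingHom.ker h.alg).map (algebraMap S A)
  let π : A →ₐ[k] A ⧸ I := Ideal.Quotient.mkₐ k I
  let j : MonoidAlgebra k M →ₐ[k] A ⧸ I := π.comp (φ : MonoidAlgebra k M →ₐ[k] A)
  have hπρ : ∀ s : S, π s = j (h.alg s) := fun s => by
    refine Ideal.Quotient.eq.2 ?_
    have h1 : (s - ⟨φ (h.alg s), hφS _⟩ : S) ∈ RingHom.ker h.alg := by
      rw [RingHom.mem_ker, map_sub, sub_eq_zero]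
      exact (h.retr _).symm
    exact Ideal.mem_map_of_mem (algebraMap S A) h1
  have hj : Function.Injective j := by
    refine (injective_iff_map_eq_zero j).2 fun d hd => ?_
    have h1 : (⟨φ d, hφS d⟩ : S) ∈ I.comap (algebraMap S A) := (Ideal.Quotient.eq_zero_iff_mem (I := I)).1 hd
    rw [Ideal.comap_map_eq_self_of_faithfullyFlat, RingHom.mem_ker] at h1
    exact (h.retr d).symm.trans h1
  have hππ : ∀ z : S ⊗[k] S, Algebra.TensorProduct.map π π (Algebra.TensorProduct.map S.val S.val z) =
      Algebra.TensorProduct.map j j (Algebra.TensorProduct.map h.alg h.alg z) := fun z => by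
    induction z using TensorProduct.induction_on with
    | zero => simp
    | add a b ha hb => simp only [map_add, ha, hb]
    | tmul a b => simp only [Algebra.TensorProduct.map_tmul, Subalgebra.coe_val, hπρ]
  let Δ : A ⧸ I →ₐ[k] (A ⧸ I) ⊗[k] (A ⧸ I) := Ideal.Quotient.liftₐ I
    ((Algebra.TensorProduct.map π π).comp (Bialgebra.comulAlgHom k A)) fun a ha => by
      refine (Ideal.map_le_iff_le_comap (K := RingHom.ker
        ((Algebra.TensorProduct.map π π).comp (Bialgebra.comulAlgHom k A)))).2 (fun s hs => ?_) ha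
      obtain ⟨z, hz, hz'⟩ := h.exists_comul s
      show Algebra.TensorProduct.map π π (Coalgebra.comul (R := k) (s : A)) = 0
      rw [← hz, hππ, hz', show h.alg s = 0 from hs, map_zero, map_zero]
  have hΔπ : ∀ a, Δ (π a) = Algebra.TensorProduct.map π π (Coalgebra.comul (R := k) a) := fun a => rfl
  have hΔj' : ∀ d, Δ (j d) = Algebra.TensorProduct.map j j (Coalgebra.comul (R := k) d) := fun d => by
    show Δ (π (φ d)) = _
    rw [hΔπ, ← CoalgHomClass.map_comp_comul_apply φ d]
    generalize Coalgebra.comul (R := k) d = z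
    induction z using TensorProduct.induction_on with
    | zero => simp
    | add a b ha hb => simp only [map_add, ha, hb]
    | tmul a b => rfl
  have hΔj : ∀ m, Δ (j (el k m)) = j (el k m) ⊗ₜ[k] j (el k m) := fun m => by
    rw [hΔj', comul_el, Algebra.TensorProduct.map_tmul]
  have hΔt : Δ (π t - j x₀) = (π t - j x₀) ⊗ₜ[k] j (el k G) + 1 ⊗ₜ[k] (π t - j x₀) := by
    have h1 : Coalgebra.comul (R := k) t =
        t ⊗ₜ[k] φ (el k G) + (1 : A) ⊗ₜ[k] t + Algebra.TensorProduct.map S.val S.val Ω := by
      rw [hX']; abel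
    rw [map_sub, hΔπ, hΔj', h1, hx₀, map_add, map_add, map_add, map_add, hππ]
    simp only [Algebra.TensorProduct.map_tmul, _root_.map_one, TensorProduct.sub_tmul, TensorProduct.tmul_sub,
      show π (φ (el k G)) = j (el k G) from rfl]
    abel
  obtain ⟨c, hc⟩ := exists_specialisation j (π t - j x₀) G hj Δ hΔj hΔt
  let x₁ : MonoidAlgebra k M := x₀ + c • (el k G - 1)
  let L : Polynomial S →ₐ[k] A := Polynomial.eval₂AlgHom S.val t fun _ => Commute.all _ _
  let ev : Polynomial S →ₐ[k] MonoidAlgebra k M := Polynomial.eval₂AlgHom h.alg x₁ fun _ => Commute.all _ _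
  have hLC : ∀ s : S, L (C s) = s := fun s => eval₂_C _ _
  have hLX : L Polynomial.X = t := eval₂_X _ _
  have heC : ∀ s : S, ev (C s) = h.alg s := fun s => eval₂_C _ _
  have heX : ev Polynomial.X = x₁ := eval₂_X _ _
  have hker : ∀ f, L f = 0 → ev f = 0 := fun f hf => by
    let f₁ : Polynomial (MonoidAlgebra k M) := f.map h.alg.toRingHom
    have h0 := hc (f₁.comp (Polynomial.X + C x₀)) (by
      rw [eval₂_comp, eval₂_add, eval₂_X, eval₂_C]
      simp only [f₁, eval₂_map]
      rw [show j.toRingHom x₀ = j x₀ from rfl, sub_add_cancel,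
        show j.toRingHom.comp h.alg.toRingHom = π.toRingHom.comp S.val.toRingHom from
          RingHom.ext fun s => (hπρ s).symm]
      refine (hom_eval₂ f S.val.toRingHom π.toRingHom t).symm.trans ?_
      show π (L f) = 0
      rw [hf, map_zero])
    rw [eval_comp, eval_add, eval_X, eval_C] at h0
    show eval₂ h.alg.toRingHom x₁ f = 0
    rw [← eval_map, ← h0, add_comm (c • _)]
  obtain ⟨ρ', hρ'⟩ := exists_comp_eq L.toLinearMap ev.toLinearMap hker
  have hρ'' : ∀ f, ρ' (L f) = ev f := hρ'
  refine ⟨L.range, ρ', lt_of_le_of_ne (fun s hs => ⟨C ⟨s, hs⟩, hLC _⟩)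
    (fun he => htS (he ▸ ⟨Polynomial.X, hLX⟩)), ?_⟩
  have hpair : ∀ f, ∃ w : Polynomial S ⊗[k] Polynomial S,
      Algebra.TensorProduct.map L L w = Coalgebra.comul (R := k) (L f) ∧
        Algebra.TensorProduct.map ev ev w = Coalgebra.comul (R := k) (ev f) := by
    let CA : S →ₐ[k] Polynomial S := Polynomial.CAlgHom
    have hCL : ∀ z, Algebra.TensorProduct.map L L (Algebra.TensorProduct.map CA CA z) =
        Algebra.TensorProduct.map S.val S.val z := fun z => by
      induction z using TensorProduct.induction_on with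
      | zero => simp
      | add a b ha hb => simp only [map_add, ha, hb]
      | tmul a b =>
        simp only [Algebra.TensorProduct.map_tmul]
        exact congrArg₂ (· ⊗ₜ[k] ·) (hLC a) (hLC b)
    have hCe : ∀ z, Algebra.TensorProduct.map ev ev (Algebra.TensorProduct.map CA CA z) =
        Algebra.TensorProduct.map h.alg h.alg z := fun z => by
      induction z using TensorProduct.induction_on with
      | zero => simp
      | add a b ha hb => simp only [map_add, ha, hb]
      | tmul a b =>
        simp only [Algebra.TensorProduct.map_tmul]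
        exact congrArg₂ (· ⊗ₜ[k] ·) (heC a) (heC b)
    intro f
    induction f using Polynomial.induction_on with
    | C s =>
      obtain ⟨z, hz, hz'⟩ := h.exists_comul s
      exact ⟨Algebra.TensorProduct.map CA CA z, by rw [hCL, hz, hLC], by rw [hCe, hz', heC]⟩
    | add p q hp hq =>
      obtain ⟨w, h1, h2⟩ := hp
      obtain ⟨w', h1', h2'⟩ := hq
      exact ⟨w + w', by simp only [map_add, h1, h1'], by simp only [map_add, h2, h2']⟩
    | monomial n s hn =>
      obtain ⟨w, h1, h2⟩ := hn
      refine ⟨w * (Polynomial.X ⊗ₜ[k] C ⟨φ (el k G), hφS _⟩ + 1 ⊗ₜ[k] Polynomial.X +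
        Algebra.TensorProduct.map CA CA Ω), ?_, ?_⟩
      · rw [_root_.map_mul, map_add, map_add, hCL, hX', h1, pow_succ, ← mul_assoc, _root_.map_mul L (_ * _) Polynomial.X, hLX,
          Bialgebra.comul_mul]
        simp only [Algebra.TensorProduct.map_tmul, hLX, hLC, _root_.map_one]
        congr 1
        abel
      · rw [_root_.map_mul, map_add, map_add, hCe, h2, pow_succ, ← mul_assoc, _root_.map_mul ev (_ * _) Polynomial.X, heX,
          Bialgebra.comul_mul]
        simp only [Algebra.TensorProduct.map_tmul, heX, heC, _root_.map_one]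
        congr 1
        rw [h.alg_apply, hρG]
        simp only [x₁, map_add, map_smul, map_sub, hx₀, comul_el, Bialgebra.comul_one,
          Algebra.TensorProduct.one_def, TensorProduct.add_tmul, TensorProduct.tmul_add, TensorProduct.sub_tmul,
          TensorProduct.tmul_sub, TensorProduct.smul_tmul', TensorProduct.tmul_smul, smul_sub]
        abel
  refine ⟨⟨?_, ?_⟩, fun x hx => ⟨C ⟨x, h.le hx⟩, hLC _⟩, fun d => ?_, ?_, ?_, ?_⟩
  · rintro _ ⟨f, rfl⟩
    obtain ⟨w, h1, -⟩ := hpair f
    refine ⟨TensorProduct.map L.rangeRestrict.toLinearMap L.rangeRestrict.toLinearMap w, ?_⟩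
    show _ = Coalgebra.comul (R := k) (L f)
    rw [← h1]
    clear h1
    induction w using TensorProduct.induction_on with
    | zero => simp
    | add a b ha hb => simp only [map_add, ha, hb]
    | tmul a b => rfl
  · rintro _ ⟨f, rfl⟩
    have hant : ∀ z : S ⊗[k] S, LinearMap.mul' k A ((HopfAlgebraStruct.antipode k).rTensor A
        (Algebra.TensorProduct.map S.val S.val z)) ∈ S := fun z => by
      induction z using TensorProduct.induction_on with
      | zero => simp
      | add a b ha hb => simp only [map_add]; exact add_mem ha hb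
      | tmul a b =>
        simp only [Algebra.TensorProduct.map_tmul, LinearMap.rTensor_tmul, LinearMap.mul'_apply]
        exact mul_mem (h.hopf.2 _ a.2) b.2
    have hSt : HopfAlgebraStruct.antipode k t ∈ L.range := by
      have h1 := hant Ω
      rw [hX', map_sub, map_sub, map_sub, map_sub, HopfAlgebra.mul_antipode_rTensor_comul_apply,
        LinearMap.rTensor_tmul, LinearMap.rTensor_tmul, LinearMap.mul'_apply, LinearMap.mul'_apply,
        HopfAlgebra.antipode_one, one_mul] at h1
      have hle : S ≤ L.range := fun s hs => ⟨C ⟨s, hs⟩, hLC _⟩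
      have ht' : t ∈ L.range := ⟨Polynomial.X, hLX⟩
      have h2 : HopfAlgebraStruct.antipode k t * φ (el k G) ∈ L.range := by
        have := sub_mem (sub_mem (L.range.algebraMap_mem (Coalgebra.counit (R := k) t)) ht') (hle h1)
        convert this using 1
        abel
      have h3 := mul_mem h2 (hle (hφS (el k G⁻¹)))
      rwa [mul_assoc, ← _root_.map_mul, el_mul, mul_inv_cancel, el_one, _root_.map_one, mul_one] at h3
    show HopfAlgebra.antipodeAlgHom k A (L f) ∈ L.range
    induction f using Polynomial.induction_on with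
    | C s => rw [hLC]; exact ⟨C ⟨_, h.hopf.2 _ s.2⟩, hLC _⟩
    | add p q hp hq => rw [map_add, map_add]; exact add_mem hp hq
    | monomial n s hn =>
      rw [pow_succ, ← mul_assoc, _root_.map_mul L, hLX, _root_.map_mul]
      exact mul_mem hn hSt
  · have := hρ'' (C ⟨φ d, hφS d⟩)
    rwa [hLC, heC, h.alg_apply, h.retr] at this
  · rintro _ ⟨f, rfl⟩ _ ⟨g, rfl⟩
    show ρ' (L f * L g) = ρ' (L f) * ρ' (L g)
    rw [← _root_.map_mul, hρ'', hρ'', hρ'', _root_.map_mul]
  · rintro _ ⟨f, rfl⟩
    obtain ⟨w, h1, h2⟩ := hpair f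
    show Coalgebra.comul (R := k) (ρ' (L f)) = TensorProduct.map ρ' ρ' (Coalgebra.comul (R := k) (L f))
    rw [hρ'', ← h2, ← h1]
    clear h1 h2
    induction w using TensorProduct.induction_on with
    | zero => simp
    | add a b ha hb => simp only [map_add, ha, hb]
    | tmul a b => simp [hρ'']
  · rintro _ ⟨f, rfl⟩
    show Coalgebra.counit (R := k) (ρ' (L f)) = Coalgebra.counit (R := k) (L f)
    rw [hρ'']
    have he : ((Bialgebra.counitAlgHom k (MonoidAlgebra k M)).comp ev) f =
        ((Bialgebra.counitAlgHom k A).comp L) f := by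
      induction f using Polynomial.induction_on with
      | C s => simp only [AlgHom.comp_apply, hLC, heC]; exact h.counit s s.2
      | add p q hp hq => simp only [map_add, hp, hq]
      | monomial n s hn =>
        rw [pow_succ, ← mul_assoc, _root_.map_mul, _root_.map_mul _ (C s * _) Polynomial.X, hn]
        congr 1
        simp only [AlgHom.comp_apply, hLX, heX]
        show Coalgebra.counit (R := k) x₁ = Coalgebra.counit (R := k) t
        let εε {B : Type u} [CommRing B] [Bialgebra k B] : B ⊗[k] B →ₗ[k] k :=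
          LinearMap.mul' k k ∘ₗ TensorProduct.map Coalgebra.counit Coalgebra.counit
        have hεε : ∀ z : S ⊗[k] S, εε (Algebra.TensorProduct.map h.alg h.alg z) =
            εε (Algebra.TensorProduct.map S.val S.val z) := fun z => by
          induction z using TensorProduct.induction_on with
          | zero => simp
          | add a b ha hb => simp only [map_add, ha, hb]
          | tmul a b => simp [εε, h.alg_apply, h.counit a a.2, h.counit b b.2]
        have hεΔ : ∀ {B : Type u} [CommRing B] [Bialgebra k B] (b : B),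
            εε (Coalgebra.comul (R := k) b) = Coalgebra.counit (R := k) b := fun {B} _ _ b => by
          have e : ∀ z : B ⊗[k] B, εε z = Coalgebra.counit (R := k) (sliceR (Coalgebra.counit (R := k)) z) := fun z => by
            induction z using TensorProduct.induction_on with
            | zero => simp
            | add a b ha hb => simp only [map_add, ha, hb]
            | tmul a b => simp [εε, mul_comm]
          rw [e]
          exact congrArg _ (hitR_counit b)
        have h1 := hεε Ω
        rw [hX', map_sub, map_sub, hεΔ] at h1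
        have h2 := congrArg εε hx₀
        rw [hεΔ, map_add, map_add] at h2
        have h3 : Coalgebra.counit (R := k) (el k G) = 1 :=
          (MonoidAlgebra.isGroupLikeElem_single_one G).counit_eq_one
        have h4 : Coalgebra.counit (R := k) (φ (el k G)) = 1 := by rw [CoalgHomClass.counit_comp_apply φ, h3]
        simp only [εε, LinearMap.comp_apply, TensorProduct.map_tmul, LinearMap.mul'_apply, h3, h4,
          Bialgebra.counit_one, mul_one, one_mul] at h1 h2
        simp only [x₁, map_add, map_smul, map_sub, h3, Bialgebra.counit_one, sub_self, smul_zero, add_zero]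
        linear_combination -h2 - h1
    exact he

end IsPartialRetr

end Groth.Agent.CohDer1.PointedSplit
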